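import Cfsg.Agent.H106.MTools
import Cfsg.Agent.H977.T5SporA
import Cfsg.Agent.H505.OddInn
import Cfsg.Agent.H898.TE6Main
import Cfsg.Agent.H235.TitsRow

/-!
# The middle rows of `Fi22` and of the Tits group, `p = 5` (helper143)
-/

set_option autoImplicit false

universe u

namespace Cfsg.Agent.H143.T5FiTits

open Cfsg Cfsg.Agent.H533.T5 Cfsg.Agent.H957.T5M Cfsg.Agent.H106.MB Cfsg.Agent.H106.MT

/-- automorphisms of prime order `≥ 5` of the sporadic groups and of the Tits group are inner -/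
theorem inner_range {K : Type u} [Group K] [Finite K] [IsSimpleGroup K]
    (h : IsSporadicGroup K ∨ Lie.IsoTits K) {p : ℕ} (hp : p.Prime) (h5 : 5 ≤ p) (a : MulAut K)
    (ha : orderOf a = p) : a ∈ (MulAut.conj : K →* MulAut K).range := by
  have h1 : ∃ g : K, a = MulAut.conj g := by
    rcases h with h | h
    · exact Cfsg.Agent.H505.OddInn.oddInn_sporadic h p hp (by omega) a ha
    · exact Cfsg.Agent.H505.OddInn.oddInn_tits h p hp (by omega) a ha
  obtain ⟨g, rfl⟩ := h1
  exact ⟨g, rfl⟩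

/-- one class of subgroups of order `p` -/
theorem mrow_of_one {K : Type u} [Group K] [Finite K] [IsSimpleGroup K] (hna : ¬ IsMulCommutative K)
    (h : IsSporadicGroup K ∨ Lie.IsoTits K) {p : ℕ} (hp : p.Prime) (h5 : 5 ≤ p)
    (hAA : AAHyp.{u} p)
    (hc : ∀ x y : K, orderOf x = p → orderOf y = p → ∃ (s : K) (j : ℤ), (s * y * s⁻¹) ^ j = x) :
    MRow p K := by
  refine MRow.of_inner hna (inner_range h hp h5) ?_
  intro x y hx hy
  obtain ⟨s, j, hs⟩ := hc x y hx hy
  exact mpair_of_isConj_zpow hAA hp hna hx hs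

/-- **The middle row of `Fi22`, `p = 5`.** -/
theorem mrow_fi22 (hAA : AAHyp.{u} 5) {K : Type u} [Group K] [Finite K] [IsSimpleGroup K]
    (hna : ¬ IsMulCommutative K) (h : Spor.IsoFi22 K) : MRow 5 K := by
  refine mrow_of_one hna (Or.inl (by unfold IsSporadicGroup; tauto)) Nat.prime_five le_rfl hAA ?_
  obtain ⟨e⟩ := h
  intro x y hx hy
  have h1 := H898.TE6Main.conj22 (u := e y) (v := e x) (by rw [MulEquiv.orderOf_eq, hy])
    (by rw [MulEquiv.orderOf_eq, hx])
  obtain ⟨c, hc⟩ := isConj_iff.1 h1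
  refine ⟨e.symm c, 1, ?_⟩
  rw [zpow_one]
  apply e.injective
  rw [map_mul, map_mul, map_inv, e.apply_symm_apply, hc]

/-- **The middle row of the Tits group, `p = 5`.** -/
theorem mrow_tits (hAA : AAHyp.{u} 5) {K : Type u} [Group K] [Finite K] [IsSimpleGroup K]
    (hna : ¬ IsMulCommutative K) (h : Lie.IsoTits K) : MRow 5 K := by
  refine mrow_of_one hna (Or.inr h) Nat.prime_five le_rfl hAA ?_
  intro x y hx hy
  obtain ⟨c, hc⟩ := isConj_iff.1 ((H235.TitsRow.facts h).one y x hy hx)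
  exact ⟨c, 1, by rw [zpow_one, hc]⟩

end Cfsg.Agent.H143.T5FiTits
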