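import Cfsg.Agent.CpAutCoFive.Core
import Cfsg.Agent.PreUniqCo.Facts
import Cfsg.Agent.H149.Sp.Leech

/-!
# Groups of automorphisms of the Leech lattice fixing a vector, with a central element of prime order at least five (helper143)

`H` acts faithfully on the Leech lattice and fixes a nonzero vector; `x` is a central element of prime order `r ≥ 5`.

* `not_nine` : `9` does not divide `|H|`;
* `prime_eq` : `r` is the only prime `≥ 5` dividing `|H|`;
* `odd_dvd` : the odd divisors of `|H|` coprime to `r` are `1` and `3`.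
-/

set_option autoImplicit false

namespace Cfsg.Agent.H143.LeechNine

open Cfsg Subgroup Module
open Cfsg.Agent.SigZeroCo2.Rank (fix mem_fix)
open Cfsg.Agent.SigZeroCo2.Lin (rep Sp rep_injective)
open Cfsg.Agent.PreUniqCo.FixBound Cfsg.Agent.PreUniqCo.LatCo
open Cfsg.Agent.CpAutCoFive (mv mem_mv pow_fix finrank_add mv_inv le_fix_of dvd_finrank_sub fix_of_coprime eq_zero_of_fix
  rep_pow_one finrank_fix_ne_zero)
open Cfsg.Agent.H149.Sp (P5 fd fd_le co0_not_comm co0_not_comm_fix)

section

variable {V : Type*} [AddCommGroup V] [Module ℚ V]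

/-- `y ^ 9 = 1` commuting with `x` of prime order `r ≥ 5` with a fixed vector: `y ^ 3` is trivial on the moved space of `x` -/
theorem le_fix_nine [FiniteDimensional ℚ V] (hV : finrank ℚ V = 24) {r : ℕ} (hr : r.Prime) (h5 : 5 ≤ r)
    {x y : Module.End ℚ V} (hx : x ^ r = 1)
    (hy : y ^ 9 = 1) (hxy : Commute x y) {e : V} (he : e ≠ 0) (hxe : x e = e) : mv x r ≤ fix (y ^ 3) := by
  have h3r : Nat.Coprime 9 r := by
    have h1 : Nat.Coprime 3 r := (Nat.coprime_primes Nat.prime_three hr).2 (by omega)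
    exact Nat.Coprime.pow_left 2 h1
  have hφ : 24 ≤ (9 * r).totient := by
    rw [Nat.totient_mul h3r, Nat.totient_prime hr, show Nat.totient 9 = 6 by decide]
    omega
  have hfx : Commute (x * y) x := (Commute.refl x).mul_left hxy.symm
  have hfu : Commute (x * y) (y ^ 3) := (hxy.pow_right 3).mul_left ((Commute.refl y).pow_right 3)
  have hux : Commute (y ^ 3) x := hxy.symm.pow_left 3
  have hf : (x * y) ^ (9 * r) = 1 := by
    rw [hxy.mul_pow, mul_comm 9 r, pow_mul, hx, one_pow, one_mul, mul_comm r 9, pow_mul, hy, one_pow]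
  have hu : (y ^ 3) ^ 3 = 1 := by rw [← pow_mul]; exact hy
  have hp : ∀ p, p.Prime → p ∣ 9 * r → ∀ v, ((x * y) ^ (9 * r / p)) v = v → x v = v ∨ (y ^ 3) v = v := by
    intro p hp hpn v hv
    rcases (hp.dvd_mul).1 hpn with h2 | h2
    · have h3 : p = 3 := (Nat.prime_dvd_prime_iff_eq hp Nat.prime_three).1 (hp.dvd_of_dvd_pow (n := 2) h2)
      subst h3
      right
      have e1 : 9 * r / 3 = 3 * r := by omega
      rw [e1, hxy.mul_pow, mul_comm 3 r, pow_mul x, hx, one_pow, one_mul, mul_comm r 3, pow_mul y] at hv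
      exact fix_of_coprime (a := r) (b := 3) ((Nat.coprime_primes hr Nat.prime_three).2 (by omega)) (by norm_num) hv
        (by rw [hu]; rfl)
    · have h3 : p = r := (Nat.prime_dvd_prime_iff_eq hp hr).1 h2
      subst h3
      left
      rw [Nat.mul_div_cancel _ hp.pos, hxy.mul_pow, hy, mul_one] at hv
      exact fix_of_coprime (a := 9) (b := p) h3r hp.one_lt hv (by rw [hx]; rfl)
  have hW : finrank ℚ (mv x r ⊓ mv (y ^ 3) 3 : Submodule ℚ V) = 0 := by
    have h1 : (9 * r).totient ∣ finrank ℚ (mv x r ⊓ mv (y ^ 3) 3 : Submodule ℚ V) := by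
      refine dvd_finrank_sub (Nat.mul_pos (by norm_num) hr.pos) hf (fun w hw => ⟨mv_inv hfx hw.1, mv_inv hfu hw.2⟩) ?_
      intro p hpp hpn v hv hv'
      rcases hp p hpp hpn v hv' with h | h
      · exact eq_zero_of_fix hr.ne_zero h hv.1
      · exact eq_zero_of_fix (by norm_num) h hv.2
    have h2 : finrank ℚ (mv x r ⊓ mv (y ^ 3) 3 : Submodule ℚ V) < 24 := by
      rw [← hV]
      apply Submodule.finrank_lt
      intro h3
      have h4 : e ∈ (mv x r ⊓ mv (y ^ 3) 3 : Submodule ℚ V) := by rw [h3]; trivial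
      exact he (eq_zero_of_fix hr.ne_zero hxe h4.1)
    by_contra h3
    have := Nat.le_of_dvd (Nat.pos_of_ne_zero h3) h1
    omega
  refine le_fix_of (r := 3) (by norm_num) hu (fun w hw => mv_inv hux hw) fun w hw hw' => ?_
  have h1 : w ∈ (mv x r ⊓ mv (y ^ 3) 3 : Submodule ℚ V) := ⟨hw, hw'⟩
  rw [Submodule.finrank_eq_zero.1 hW, Submodule.mem_bot] at h1
  exact h1

end

theorem five_le {r : ℕ} (h : P5 r) : 5 ≤ r := by
  rcases h with h | h | h | h | h <;> omega

/-- an element of prime order at least five moves a space of dimension at least 16 -/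
theorem sixteen_le {g : Co0} {r : ℕ} (hr : P5 r) (hg : orderOf g = r) : 16 ≤ finrank ℚ (mv (rep g) r) := by
  have h1 := finrank_add (u := rep g) (r := r) hr.prime.ne_zero (rep_pow_one hg)
  have h2 := fd_le hr hg
  unfold fd at h2
  rw [CpAutCoFive.finrank_Sp] at h1
  have h3 : H149.Sp.B r ≤ 8 := by
    rcases hr with rfl | rfl | rfl | rfl | rfl <;> decide
  omega

variable {H : Type*} [Group H] [Finite H] {φ : H →* Co0} {v : leechLattice} {x : H}

/-- **`9` does not divide the order.** -/
theorem not_nine (hφ : Function.Injective φ) (hv : v ≠ 0) (hfix : ∀ h, φ h • v = v) {r : ℕ} (hr : P5 r)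
    (hx : orderOf x = r) (hc : ∀ g, g * x = x * g) : ¬ 9 ∣ Nat.card H := by
  intro hd
  have F := PreUniqCo.Facts.facts
  have h3 : Fact (Nat.Prime 3) := ⟨Nat.prime_three⟩
  obtain ⟨P, hP⟩ := Sylow.exists_subgroup_card_pow_prime 3 (n := 2) (G := H) hd
  have ox : orderOf (φ x) = r := (orderOf_injective φ hφ x).trans hx
  have hcm : ∀ y : H, Commute (rep (φ x)) (rep (φ y)) := by
    intro y
    have h1 : Commute x y := (hc y).symm
    exact (h1.map φ).map rep
  have he : tau v ≠ 0 := fun h => hv (tau_injective (by rw [h, map_zero]))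
  have hxe : rep (φ x) (tau v) = tau v := mem_fix.1 (mem_fix_tau.2 (hfix x))
  by_cases h9 : ∃ y ∈ P, orderOf y = 9
  · obtain ⟨y, -, hy⟩ := h9
    have oy : orderOf (φ y) = 9 := (orderOf_injective φ hφ y).trans hy
    have h1 : mv (rep (φ x)) r ≤ fix (rep (φ y) ^ 3) :=
      le_fix_nine CpAutCoFive.finrank_Sp hr.prime (five_le hr) (rep_pow_one ox) (rep_pow_one oy) (hcm y) he hxe
    have h2 := Submodule.finrank_mono h1
    have h4 := sixteen_le hr ox
    have oy3 : orderOf (φ y ^ 3) = 3 := by
      rw [orderOf_pow_of_dvd (by norm_num) (by rw [oy]; norm_num), oy]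
    have h5 := F.dims _ oy3
    rw [← map_pow] at h2
    omega
  · push Not at h9
    have hel : IsElementaryAbelian 3 P := by
      refine ⟨⟨⟨fun a b => ?_⟩⟩, fun a ha => ?_⟩
      · let _ := IsPGroup.commGroupOfCardEqPrimeSq hP
        exact mul_comm a b
      · have h1 : orderOf a ∣ 3 ^ 2 := by
          rw [← hP]
          exact Subgroup.orderOf_dvd_natCard P ha
        obtain ⟨k, hk, hk'⟩ := (Nat.dvd_prime_pow Nat.prime_three).1 h1
        have hk2 : k ≠ 2 := by
          rintro rfl
          exact h9 a ha hk'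
        apply orderOf_dvd_iff_pow_eq_one.1
        rw [hk']
        calc 3 ^ k ∣ 3 ^ 1 := pow_dvd_pow 3 (by omega)
          _ = 3 := pow_one 3
    obtain ⟨a, -, b, -, oa, ob, oab, oab2, hab⟩ := PreUniqCo.Gen.exists_gens hel (by rw [hP]; norm_num)
    have ord : ∀ y, orderOf (φ y) = orderOf y := fun y => orderOf_injective φ hφ y
    have hax : Commute a x := hc a
    have hbx : Commute b x := hc b
    have hpos : ∀ y : H, finrank ℚ (fix (rep (φ y))) ≠ 0 := fun y => finrank_fix_ne_zero hv (hfix y)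
    have e1 : φ a * φ b = φ (a * b) := (map_mul φ a b).symm
    have e2 : φ a * φ b ^ 2 = φ (a * b ^ 2) := by rw [map_mul, map_pow]
    rcases exists_free F (r := r) hr.prime (five_le hr) (a := φ a) (b := φ b) (y := φ x) (by rw [ord, oa])
      (by rw [ord, ob]) (by rw [e1, ord, oab]) (by rw [e2, ord, oab2]) ox (hab.map φ) (hax.map φ) (hbx.map φ)
      with h | h | h | h
    · exact hpos _ h
    · exact hpos _ h
    · rw [e1] at h
      exact hpos _ h
    · rw [e2] at h
      exact hpos _ h

omit [Finite H] in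
/-- Two commuting elements of different prime orders at least five: none. -/
theorem not_comm (hφ : Function.Injective φ) (hv : v ≠ 0) (hfix : ∀ h, φ h • v = v) {r q : ℕ} (hr : P5 r) (hq : P5 q)
    (hrq : r ≠ q) {y : H} (hx : orderOf x = r) (hy : orderOf y = q) : x * y ≠ y * x := by
  intro hc
  have ord : ∀ y, orderOf (φ y) = orderOf y := fun y => orderOf_injective φ hφ y
  have hc' : φ x * φ y = φ y * φ x := by rw [← map_mul, hc, map_mul]
  rcases lt_or_gt_of_ne hrq with h | h
  · by_cases h57 : r = 5 ∧ q = 7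
    · exact co0_not_comm_fix hv (hfix x) (hfix y) (by rw [ord, hx, h57.1]) (by rw [ord, hy, h57.2]) hc'
    · exact co0_not_comm hr hq h h57 (by rw [ord, hx]) (by rw [ord, hy]) hc'
  · by_cases h57 : q = 5 ∧ r = 7
    · exact co0_not_comm_fix hv (hfix y) (hfix x) (by rw [ord, hy, h57.1]) (by rw [ord, hx, h57.2]) hc'.symm
    · exact co0_not_comm hq hr h h57 (by rw [ord, hy]) (by rw [ord, hx]) hc'.symm

/-- **`r` is the only prime at least five dividing the order.** -/
theorem prime_eq (hφ : Function.Injective φ) (hv : v ≠ 0) (hfix : ∀ h, φ h • v = v) {r q : ℕ} (hr : P5 r) (hq : P5 q)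
    (hx : orderOf x = r) (hc : ∀ g, g * x = x * g) (hd : q ∣ Nat.card H) : q = r := by
  by_contra hne
  have : Fact q.Prime := ⟨hq.prime⟩
  obtain ⟨y, hy⟩ := exists_prime_orderOf_dvd_card' q hd
  exact not_comm hφ hv hfix hr hq (fun h => hne h.symm) hx hy (hc y).symm

end Cfsg.Agent.H143.LeechNine
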