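import Cfsg.Agent.H453.OddM.Defs
import Mathlib.GroupTheory.Sylow

/-!
# Lifting reality through a quotient by a `p'`-group (helper143)

`isReal_lift`: `φ : G →* H` with `p ∤ |ker φ|`, `x` of prime order `p`, `φ (g x g⁻¹) = φ x⁻¹`; then `x` is real.
`realP_five_of_alt`: `φ` with image `A₅` and kernel of order prime to `5`.
-/

set_option autoImplicit false

namespace Cfsg.Agent.H143.OdmLift

open Subgroup Cfsg.Agent.H453.OddM

theorem isReal_lift {G H : Type*} [Group G] [Finite G] [Group H] (φ : G →* H) {p : ℕ} (hp : p.Prime)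
    (hcop : ¬ p ∣ Nat.card φ.ker) {x : G} (hx : orderOf x = p) {g : G} (hg : φ (g * x * g⁻¹) = φ x⁻¹) :
    IsReal x := by
  classical
  have : Fact p.Prime := ⟨hp⟩
  set L : Subgroup G := (zpowers (φ x)).comap φ with hL
  have hxL : x ∈ L := mem_comap.2 (mem_zpowers (φ x))
  have hyL : g * x * g⁻¹ ∈ L := by
    rw [hL, mem_comap, hg, map_inv]
    exact inv_mem (mem_zpowers _)
  have hy : orderOf (g * x * g⁻¹) = p := by
    rw [← hx]
    exact orderOf_injective (MulAut.conj g).toMonoidHom (MulAut.conj g).injective x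
  have hp1 : IsPGroup p (zpowers (⟨x, hxL⟩ : L)) :=
    IsPGroup.of_card (n := 1) (by rw [Nat.card_zpowers, Subgroup.orderOf_mk, hx, pow_one])
  have hp2 : IsPGroup p (zpowers (⟨g * x * g⁻¹, hyL⟩ : L)) :=
    IsPGroup.of_card (n := 1) (by rw [Nat.card_zpowers, Subgroup.orderOf_mk, hy, pow_one])
  obtain ⟨S1, hS1⟩ := hp1.exists_le_sylow
  obtain ⟨S2, hS2⟩ := hp2.exists_le_sylow
  obtain ⟨l, hl⟩ := MulAction.exists_smul_eq L S2 S1
  have h1 : (⟨x, hxL⟩ : L) ∈ (S1 : Subgroup L) := hS1 (mem_zpowers _)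
  have h2 : (⟨g * x * g⁻¹, hyL⟩ : L) ∈ (S2 : Subgroup L) := hS2 (mem_zpowers _)
  have h3 : l * (⟨g * x * g⁻¹, hyL⟩ : L) * l⁻¹ ∈ (S1 : Subgroup L) := by
    rw [← hl]
    exact Subgroup.smul_mem_pointwise_smul _ (MulAut.conj l) _ h2
  -- `l y l⁻¹ x` lies in the kernel and in `S1`
  have h4 : φ ((l : G) * (g * x * g⁻¹) * (l : G)⁻¹ * x) = 1 := by
    have hlm : φ (l : G) ∈ zpowers (φ x) := l.2
    obtain ⟨k, hk⟩ := mem_zpowers_iff.1 hlm
    rw [map_mul, map_mul, map_mul, hg, map_inv, map_inv, ← hk]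
    group
  have h5 : l * (⟨g * x * g⁻¹, hyL⟩ : L) * l⁻¹ * (⟨x, hxL⟩ : L) ∈ (S1 : Subgroup L) := mul_mem h3 h1
  have h6 : ((l * (⟨g * x * g⁻¹, hyL⟩ : L) * l⁻¹ * (⟨x, hxL⟩ : L) : L) : G) = 1 := by
    set w := l * (⟨g * x * g⁻¹, hyL⟩ : L) * l⁻¹ * (⟨x, hxL⟩ : L) with hw
    have h7 : (w : G) ∈ φ.ker := h4
    have h8 : orderOf (w : G) ∣ Nat.card φ.ker := Subgroup.orderOf_dvd_natCard _ h7
    obtain ⟨k, hk⟩ := S1.isPGroup' ⟨w, h5⟩
    have h9 : w ^ p ^ k = 1 := congrArg Subtype.val hk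
    have h10 : (w : G) ^ p ^ k = 1 := by
      have := congrArg (Subtype.val : L → G) h9
      simpa using this
    have h11 : orderOf (w : G) ∣ p ^ k := orderOf_dvd_of_pow_eq_one h10
    obtain ⟨j, -, hj⟩ := (Nat.dvd_prime_pow hp).1 h11
    rcases Nat.eq_zero_or_pos j with h0 | h0
    · rw [h0, pow_zero] at hj
      exact orderOf_eq_one_iff.1 hj
    · exfalso
      apply hcop
      refine (dvd_pow_self p h0.ne').trans ?_
      rw [← hj]
      exact h8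
  refine ⟨(l : G) * g, ?_⟩
  have h7 : (l : G) * (g * x * g⁻¹) * (l : G)⁻¹ * x = 1 := h6
  rw [← eq_inv_of_mul_eq_one_left h7]
  group

/-- a homomorphism onto `A₅` with kernel of order prime to `5` -/
theorem realP_five {G : Type*} [Group G] [Finite G] (φ : G →* Equiv.Perm (Fin 5))
    (hφ : alternatingGroup (Fin 5) ≤ φ.range) (hcop : ¬ 5 ∣ Nat.card φ.ker) : RealP G 5 := by
  classical
  have key : ∃ c d : Equiv.Perm (Fin 5), Equiv.Perm.sign c = 1 ∧ Equiv.Perm.sign d = 1 ∧ c ^ 5 = 1 ∧ c ≠ 1 ∧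
      d * c * d⁻¹ = c⁻¹ := by
    refine ⟨finRotate 5, finRotate 5 * Fin.revPerm, ?_, ?_, ?_, ?_, ?_⟩ <;> decide
  obtain ⟨c, d, hc, hd, hc5, hc1, hdc⟩ := key
  obtain ⟨x0, hx0⟩ := hφ (Equiv.Perm.mem_alternatingGroup.2 hc)
  obtain ⟨g, hg⟩ := hφ (Equiv.Perm.mem_alternatingGroup.2 hd)
  -- an inverse of `|ker φ|` modulo 5
  set m := Nat.card φ.ker with hm
  have h1 : x0 ^ 5 ∈ φ.ker := by rw [MonoidHom.mem_ker, map_pow, hx0, hc5]
  have h2 : (x0 ^ m) ^ 5 = 1 := by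
    rw [← pow_mul, mul_comm, pow_mul]
    exact orderOf_dvd_iff_pow_eq_one.1 (Subgroup.orderOf_dvd_natCard _ h1)
  have h3 : φ (x0 ^ m) = c ^ m := by rw [map_pow, hx0]
  have : Fact (Nat.Prime 5) := ⟨by norm_num⟩
  have h5 : orderOf c = 5 := orderOf_eq_prime hc5 hc1
  have h4 : c ^ m ≠ 1 := by
    intro h
    apply hcop
    rw [← h5]
    exact orderOf_dvd_of_pow_eq_one h
  have h6 : orderOf (x0 ^ m) = 5 := by
    refine orderOf_eq_prime h2 fun h => h4 ?_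
    rw [← h3, h, map_one]
  refine ⟨x0 ^ m, h6, isReal_lift φ (by norm_num : Nat.Prime 5) hcop h6 (g := g) ?_⟩
  rw [map_mul, map_mul, map_inv, map_inv, h3, hg, ← conj_pow, hdc, inv_pow]

end Cfsg.Agent.H143.OdmLift
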