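import Cfsg.Agent.H516.OddFrame
import Cfsg.Agent.H143.Co3Inv
import Cfsg.Agent.H143.LeechNine
import Cfsg.Agent.KFacts.Co3.Out
import Cfsg.Agent.SporRec.Co3.Model

/-!
# S4094, S4095, S4096, S3842 : the row `Co₃` (helper143)

* `centralizer_dvd` : `|C(y)|` divides `2 ^ 10 * 3 * r ^ k` for the elements `y` of prime order `r ≥ 5`, `r ^ k` the `r`-part
  of the order;
* `card_lt` : the centralizers of odd order have order less than `1024`;
* `row`.
-/

set_option autoImplicit false

namespace Cfsg.Agent.H143.RowCo3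

open Subgroup Cfsg
open Cfsg.Agent.SporRec.Co3.Chain (G3 isCo3_G3)
open Cfsg.Agent.H149.Sp (P5)
open Cfsg.Agent.H143.Co3Inv (three_inv cube_of_central finG3)

universe u

theorem card_G3 : Nat.card G3 = 2 ^ 10 * 3 ^ 7 * 5 ^ 3 * 7 * 11 * 23 := by rw [isCo3_G3.2]; norm_num

theorem mem_cent {G : Type*} [Group G] {x y : G} : y ∈ centralizer ({x} : Set G) ↔ y * x = x * y :=
  mem_centralizer_singleton_iff

/-- the prime divisors -/
theorem prime_cases {r : ℕ} (hr : r.Prime) (hd : r ∣ Nat.card G3) : r = 2 ∨ r = 3 ∨ P5 r := by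
  rw [card_G3] at hd
  have h : ∀ a n : ℕ, a.Prime → r ∣ a ^ n → r = a := fun a n ha h =>
    (Nat.prime_dvd_prime_iff_eq hr ha).1 (hr.dvd_of_dvd_pow h)
  rcases (hr.dvd_mul).1 hd with hd | hd
  · rcases (hr.dvd_mul).1 hd with hd | hd
    · rcases (hr.dvd_mul).1 hd with hd | hd
      · rcases (hr.dvd_mul).1 hd with hd | hd
        · rcases (hr.dvd_mul).1 hd with hd | hd
          · exact Or.inl (h 2 _ (by norm_num) hd)
          · exact Or.inr (Or.inl (h 3 _ (by norm_num) hd))
        · exact Or.inr (Or.inr (Or.inl (h 5 _ (by norm_num) hd)))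
      · exact Or.inr (Or.inr (Or.inr (Or.inl (h 7 1 (by norm_num) hd))))
    · exact Or.inr (Or.inr (Or.inr (Or.inr (Or.inl (h 11 1 (by norm_num) hd)))))
  · exact Or.inr (Or.inr (Or.inr (Or.inr (Or.inr (Or.inr (h 23 1 (by norm_num) hd))))))

section

/-- the centralizer of `y` in `G3`, acting on the Leech lattice -/
def phi (y : G3) : ↥(centralizer ({y} : Set G3)) →* Co0 := (G3.subtype).comp (centralizer ({y} : Set G3)).subtype

theorem phi_inj (y : G3) : Function.Injective (phi y) := fun _ _ h => Subtype.ext (Subtype.ext h)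

theorem phi_fix (y : G3) (g : ↥(centralizer ({y} : Set G3))) : phi y g • Spor.leechV = Spor.leechV :=
  (g : G3).2

/-- the element `y` in its centralizer -/
def ym (y : G3) : ↥(centralizer ({y} : Set G3)) := ⟨y, mem_cent.2 rfl⟩

theorem ym_comm (y : G3) (g : ↥(centralizer ({y} : Set G3))) : g * ym y = ym y * g := Subtype.ext (mem_cent.1 g.2)

theorem orderOf_ym (y : G3) : orderOf (ym y) = orderOf y := (Subgroup.orderOf_coe (ym y)).symm

theorem leechV_ne : Spor.leechV ≠ 0 := by
  intro h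
  have h1 := congrArg (fun v : leechLattice => (v : GolayPt → ℤ) none) h
  have h2 : Spor.vecV none = 0 := h1
  simp [Spor.vecV] at h2

theorem not_nine {y : G3} (hy : P5 (orderOf y)) : ¬ 9 ∣ Nat.card ↥(centralizer ({y} : Set G3)) :=
  LeechNine.not_nine (phi_inj y) leechV_ne (phi_fix y) hy (orderOf_ym y) (ym_comm y)

theorem prime_eq {y : G3} (hy : P5 (orderOf y)) {q : ℕ} (hq : P5 q) (hd : q ∣ Nat.card ↥(centralizer ({y} : Set G3))) :
    q = orderOf y :=
  LeechNine.prime_eq (phi_inj y) leechV_ne (phi_fix y) hy hq (orderOf_ym y) (ym_comm y) hd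

/-- elements whose order is divisible by nine do not commute with elements of prime order `≥ 5` -/
theorem false_of_nine {x y : G3} (hy : P5 (orderOf y)) (hx : 9 ∣ orderOf x) (hc : x * y = y * x) : False := by
  apply not_nine hy
  refine hx.trans ?_
  have h := Subgroup.orderOf_dvd_natCard (centralizer ({y} : Set G3)) (mem_cent.2 hc)
  exact h

end

theorem dvd_of_no_prime {n a b : ℕ} (h : n ∣ a * b) (hn : n.Coprime b) : n ∣ a := hn.dvd_of_dvd_mul_right h

/-- **centralizers of elements of prime order at least five** -/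
theorem centralizer_dvd {y : G3} (hy : P5 (orderOf y)) :
    Nat.card ↥(centralizer ({y} : Set G3)) ∣ 2 ^ 10 * 3 * 5 ^ 3 ∨ Nat.card ↥(centralizer ({y} : Set G3)) ∣ 2 ^ 10 * 3 * 23 ∨
      Nat.card ↥(centralizer ({y} : Set G3)) ∣ 2 ^ 10 * 3 * 7 ∨ Nat.card ↥(centralizer ({y} : Set G3)) ∣ 2 ^ 10 * 3 * 11 := by
  have h9 := not_nine hy
  have hq : ∀ q, P5 q → q ≠ orderOf y → (Nat.card ↥(centralizer ({y} : Set G3))).Coprime q := fun q hq hne =>
    ((Nat.Prime.coprime_iff_not_dvd hq.prime).2 fun hd => hne (prime_eq hy hq hd)).symm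
  have h0 : Nat.card ↥(centralizer ({y} : Set G3)) ∣ 2 ^ 10 * 3 ^ 7 * 5 ^ 3 * 7 * 11 * 23 := by
    rw [← card_G3]; exact card_subgroup_dvd_card _
  have hc0 : Nat.card ↥(centralizer ({y} : Set G3)) ≠ 0 := Nat.card_pos.ne'
  generalize Nat.card ↥(centralizer ({y} : Set G3)) = c at *
  -- the 3-part
  have h3 : ∀ m : ℕ, ¬ 3 ∣ m → c ∣ m * 3 ^ 7 → c ∣ m * 3 := by
    intro m hm hcm
    obtain ⟨k, d, hd, hH⟩ := Nat.exists_eq_pow_mul_and_not_dvd hc0 3 (by norm_num)
    have hk : k < 2 := by
      by_contra hcon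
      apply h9
      rw [hH]
      calc 9 = 3 ^ 2 := by norm_num
        _ ∣ 3 ^ k := pow_dvd_pow 3 (by omega)
        _ ∣ 3 ^ k * d := dvd_mul_right _ _
    have h4 : d ∣ m := by
      refine Nat.Coprime.dvd_of_dvd_mul_right (n := 3 ^ 7) ?_ ((Dvd.intro_left _ hH.symm).trans hcm)
      exact (((Nat.Prime.coprime_iff_not_dvd Nat.prime_three).2 hd).symm).pow_right 7
    rw [hH, mul_comm m 3]
    exact mul_dvd_mul (by calc 3 ^ k ∣ 3 ^ 1 := pow_dvd_pow 3 (by omega)
                            _ = 3 := pow_one 3) h4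
  have c5 : orderOf y ≠ 5 → c.Coprime (5 ^ 3) := fun h => (hq 5 (Or.inl rfl) (Ne.symm h)).pow_right 3
  have c7 : orderOf y ≠ 7 → c.Coprime 7 := fun h => hq 7 (Or.inr (Or.inl rfl)) (Ne.symm h)
  have c11 : orderOf y ≠ 11 → c.Coprime 11 := fun h => hq 11 (Or.inr (Or.inr (Or.inl rfl))) (Ne.symm h)
  have c23 : orderOf y ≠ 23 → c.Coprime 23 := fun h => hq 23 (Or.inr (Or.inr (Or.inr (Or.inr rfl)))) (Ne.symm h)
  by_cases e5 : orderOf y = 5
  · left
    have h1 := (c23 (by omega)).dvd_of_dvd_mul_right h0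
    have h2 := (c11 (by omega)).dvd_of_dvd_mul_right h1
    have h4 := (c7 (by omega)).dvd_of_dvd_mul_right h2
    have h5 := h3 (2 ^ 10 * 5 ^ 3) (by norm_num) (h4.trans (dvd_of_eq (by ring)))
    exact h5.trans (dvd_of_eq (by ring))
  · have h1 : c ∣ 2 ^ 10 * 3 ^ 7 * 7 * 11 * 23 :=
      (c5 e5).dvd_of_dvd_mul_right (h0.trans (dvd_of_eq (by ring)))
    right
    by_cases e23 : orderOf y = 23
    · left
      have h2 : c ∣ 2 ^ 10 * 3 ^ 7 * 7 * 23 := (c11 (by omega)).dvd_of_dvd_mul_right (h1.trans (dvd_of_eq (by ring)))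
      have h4 : c ∣ 2 ^ 10 * 3 ^ 7 * 23 := (c7 (by omega)).dvd_of_dvd_mul_right (h2.trans (dvd_of_eq (by ring)))
      have h5 := h3 (2 ^ 10 * 23) (by norm_num) (h4.trans (dvd_of_eq (by ring)))
      exact h5.trans (dvd_of_eq (by ring))
    · have h2 : c ∣ 2 ^ 10 * 3 ^ 7 * 7 * 11 := (c23 e23).dvd_of_dvd_mul_right h1
      right
      by_cases e7 : orderOf y = 7
      · left
        have h4 : c ∣ 2 ^ 10 * 3 ^ 7 * 7 := (c11 (by omega)).dvd_of_dvd_mul_right h2
        have h5 := h3 (2 ^ 10 * 7) (by norm_num) (h4.trans (dvd_of_eq (by ring)))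
        exact h5.trans (dvd_of_eq (by ring))
      · right
        have h4 : c ∣ 2 ^ 10 * 3 ^ 7 * 11 := (c7 e7).dvd_of_dvd_mul_right (h2.trans (dvd_of_eq (by ring)))
        have h5 := h3 (2 ^ 10 * 11) (by norm_num) (h4.trans (dvd_of_eq (by ring)))
        exact h5.trans (dvd_of_eq (by ring))

theorem odd_le {c m : ℕ} (ho : Odd c) (hd : c ∣ 2 ^ 10 * m) (hm : 0 < m) : c ≤ m :=
  Nat.le_of_dvd hm ((Nat.Coprime.pow_right 10 (Nat.coprime_two_right.2 ho)).dvd_of_dvd_mul_left hd)

/-- odd subgroups of centralizers of elements of prime order at least five -/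
theorem odd_card_le {y : G3} (hy : P5 (orderOf y)) {H : Subgroup G3} (hH : H ≤ centralizer ({y} : Set G3))
    (ho : Odd (Nat.card H)) : Nat.card H ≤ 375 := by
  have h0 := Subgroup.card_dvd_of_le hH
  rcases centralizer_dvd hy with h | h | h | h
  · exact odd_le (m := 375) ho ((h0.trans h).trans (dvd_of_eq (by norm_num))) (by norm_num)
  · exact (odd_le (m := 69) ho ((h0.trans h).trans (dvd_of_eq (by norm_num))) (by norm_num)).trans (by norm_num)
  · exact (odd_le (m := 21) ho ((h0.trans h).trans (dvd_of_eq (by norm_num))) (by norm_num)).trans (by norm_num)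
  · exact (odd_le (m := 33) ho ((h0.trans h).trans (dvd_of_eq (by norm_num))) (by norm_num)).trans (by norm_num)

/-- **The centralizers of odd order have order less than `1024`.** -/
theorem card_lt {x : G3} (hx1 : x ≠ 1) (ho : Odd (Nat.card ↥(centralizer ({x} : Set G3)))) :
    Nat.card ↥(centralizer ({x} : Set G3)) < 1024 := by
  have hxm : x ∈ centralizer ({x} : Set G3) := mem_cent.2 rfl
  have hox : Odd (orderOf x) := ho.of_dvd_nat (Subgroup.orderOf_dvd_natCard _ hxm)
  by_cases hr : ∃ r, P5 r ∧ r ∣ orderOf x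
  · obtain ⟨r, hr, c, hc⟩ := hr
    have hc0 : c ≠ 0 := by
      rintro rfl
      rw [mul_zero] at hc
      exact (orderOf_pos x).ne' hc
    have hy : orderOf (x ^ c) = r := by
      rw [orderOf_pow_of_dvd hc0 ⟨r, by rw [hc]; ring⟩, hc, Nat.mul_div_cancel _ (Nat.pos_of_ne_zero hc0)]
    have hle : centralizer ({x} : Set G3) ≤ centralizer ({x ^ c} : Set G3) := by
      intro g hg
      rw [mem_cent] at hg ⊢
      exact (Commute.pow_right (show Commute g x from hg) c).eq
    exact (odd_card_le (by rw [hy]; exact hr) hle ho).trans_lt (by norm_num)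
  · push Not at hr
    have hp : ∀ r, r.Prime → r ∣ orderOf x → r = 3 := by
      intro r hr' hd
      rcases prime_cases hr' (hd.trans (orderOf_dvd_natCard x)) with rfl | h | h
      · exact absurd hd (fun h => (Nat.not_even_iff_odd.2 hox) (even_iff_two_dvd.2 h))
      · exact h
      · exact absurd hd (hr r h)
    -- `x` is a 3-element
    obtain ⟨k, hk⟩ : ∃ k, orderOf x = 3 ^ k :=
      ⟨(orderOf x).primeFactorsList.length, Nat.eq_prime_pow_of_unique_prime_dvd (orderOf_pos x).ne' fun {r} h1 h2 => hp r h1 h2⟩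
    have h3' : x ^ 3 ≠ 1 := by
      intro h3
      obtain ⟨t, ht, ht1, htx⟩ := three_inv h3 hx1
      have h2 : orderOf t = 2 := orderOf_eq_prime (by rw [pow_two]; exact ht) ht1
      have h4 := Subgroup.orderOf_dvd_natCard (centralizer ({x} : Set G3)) (mem_cent.2 htx)
      rw [h2] at h4
      exact (Nat.not_even_iff_odd.2 ho) (even_iff_two_dvd.2 h4)
    have h9 : 9 ∣ orderOf x := by
      have hk2 : 2 ≤ k := by
        by_contra hcon
        push Not at hcon
        apply h3'
        rw [← orderOf_dvd_iff_pow_eq_one, hk]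
        calc 3 ^ k ∣ 3 ^ 1 := pow_dvd_pow 3 (by omega)
          _ = 3 := pow_one 3
      rw [hk]
      exact pow_dvd_pow 3 hk2
    -- no prime at least five
    have hq : ∀ q, q.Prime → q ∣ Nat.card ↥(centralizer ({x} : Set G3)) → q = 3 := by
      intro q hq hd
      rcases prime_cases hq (hd.trans (card_subgroup_dvd_card _)) with rfl | h | h
      · exact absurd hd (fun h => (Nat.not_even_iff_odd.2 ho) (even_iff_two_dvd.2 h))
      · exact h
      · exfalso
        have : Fact q.Prime := ⟨hq⟩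
        obtain ⟨y, hy⟩ := exists_prime_orderOf_dvd_card' q hd
        have hy' : orderOf (y : G3) = q := by rw [Subgroup.orderOf_coe]; exact hy
        exact false_of_nine (x := x) (y := y) (by rw [hy']; exact h) h9 (mem_cent.1 y.2).symm
    obtain ⟨m, hm⟩ : ∃ m, Nat.card ↥(centralizer ({x} : Set G3)) = 3 ^ m :=
      ⟨_, Nat.eq_prime_pow_of_unique_prime_dvd Nat.card_pos.ne' fun {r} h1 h2 => hq r h1 h2⟩
    have hm7 : m ≤ 6 := by
      by_contra hcon
      push Not at hcon
      have h3p : Fact (Nat.Prime 3) := ⟨Nat.prime_three⟩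
      obtain ⟨S, hS⟩ := (IsPGroup.of_card hm).exists_le_sylow
      have hSx : (S : Subgroup G3) = centralizer ({x} : Set G3) := by
        symm
        refine Subgroup.eq_of_le_of_card_ge hS ?_
        obtain ⟨j, hj⟩ := IsPGroup.iff_card.mp S.2
        rw [hj, hm]
        refine Nat.pow_le_pow_right (by norm_num) ?_
        by_contra hcon'
        have h8 : 3 ^ 8 ∣ Nat.card G3 := (pow_dvd_pow 3 (show 8 ≤ j by omega)).trans (by rw [← hj]; exact card_subgroup_dvd_card _)
        rw [card_G3] at h8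
        norm_num at h8
      refine h3' (cube_of_central S ?_ ?_)
      · have : x ∈ (S : Subgroup G3) := by rw [hSx]; exact hxm
        exact this
      · intro y hy
        have : y ∈ (S : Subgroup G3) := hy
        rw [hSx] at this
        exact (mem_cent.1 this).symm
    rw [hm]
    calc 3 ^ m ≤ 3 ^ 6 := Nat.pow_le_pow_right (by norm_num) hm7
      _ < 1024 := by norm_num

section Transport

variable {L : Type u} [Group L]

theorem centralizer_map {G K : Type*} [Group G] [Group K] (e : G ≃* K) (x : G) :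
    Nat.card ↥(centralizer ({e x} : Set K)) = Nat.card ↥(centralizer ({x} : Set G)) := by
  have h : (centralizer ({x} : Set G)).map (e : G →* K) = centralizer ({e x} : Set K) := by
    ext y
    constructor
    · rintro ⟨a, ha, rfl⟩
      rw [mem_cent]
      change e a * e x = e x * e a
      rw [← map_mul, ← map_mul, mem_cent.1 ha]
    · intro hy
      refine ⟨e.symm y, ?_, e.apply_symm_apply y⟩
      rw [SetLike.mem_coe, mem_cent]
      apply e.injective
      rw [map_mul, map_mul, e.apply_symm_apply]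
      exact mem_cent.1 hy
  rw [← h, card_map_of_injective e.injective]

theorem equiv_G3 (h : Spor.IsoCo3 L) : Nonempty (L ≃* G3) := by
  obtain ⟨e⟩ := h
  exact ⟨e.trans SporRec.Co3.Model.equivCo3.symm⟩

/-- all automorphisms are inner -/
theorem inner (h : Spor.IsoCo3 L) (a : MulAut L) : ∃ x : L, a = MulAut.conj x := by
  obtain ⟨e⟩ := equiv_G3 h
  obtain ⟨g, hg⟩ := KFacts.Co3.Out.aut ((e.symm.trans a).trans e)
  refine ⟨e.symm g, ?_⟩
  ext x
  have h1 := hg (e x)
  have h2 : e (a (e.symm (e x))) = g * e x * g⁻¹ := h1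
  rw [MulEquiv.symm_apply_apply] at h2
  have h3 := congrArg e.symm h2
  rw [MulEquiv.symm_apply_apply, map_mul, map_mul, map_inv, MulEquiv.symm_apply_apply] at h3
  rw [h3, MulAut.conj_apply]

/-- **The centralizers of odd order in `Co₃` have order less than `1024`.** -/
theorem card_lt_of_odd (h : Spor.IsoCo3 L) {x : L} (hx1 : x ≠ 1) (ho : Odd (Nat.card ↥(centralizer ({x} : Set L)))) :
    Nat.card ↥(centralizer ({x} : Set L)) < 1024 := by
  obtain ⟨e⟩ := equiv_G3 h
  rw [← centralizer_map e x] at ho ⊢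
  exact card_lt (fun h => hx1 (e.injective (by rw [h, map_one]))) ho

/-- **The centralizers of elements of prime order at least five in `Co₃`.** -/
theorem centralizer_dvd_of (h : Spor.IsoCo3 L) {y : L} (hy : (orderOf y).Prime) (h5 : 5 ≤ orderOf y) :
    Nat.card ↥(centralizer ({y} : Set L)) ∣ 2 ^ 10 * 3 * 5 ^ 3 ∨ Nat.card ↥(centralizer ({y} : Set L)) ∣ 2 ^ 10 * 3 * 23 ∨
      Nat.card ↥(centralizer ({y} : Set L)) ∣ 2 ^ 10 * 3 * 7 ∨ Nat.card ↥(centralizer ({y} : Set L)) ∣ 2 ^ 10 * 3 * 11 := by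
  obtain ⟨e⟩ := equiv_G3 h
  rw [← centralizer_map e y]
  have ho : orderOf (e y) = orderOf y := e.orderOf_eq y
  apply centralizer_dvd
  rw [ho]
  rcases prime_cases hy (by rw [← ho]; exact orderOf_dvd_natCard (e y)) with h | h | h
  · omega
  · omega
  · exact h

theorem card_eq (h : Spor.IsoCo3 L) : Nat.card L = 2 ^ 10 * 3 ^ 7 * 5 ^ 3 * 7 * 11 * 23 := by
  obtain ⟨e⟩ := equiv_G3 h
  rw [Nat.card_congr e.toEquiv, card_G3]

end Transport

theorem fixed_conj {L : Type u} [Group L] (x : L) :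
    fixedSubgroup (MulAut.conj x) = centralizer ({x} : Set L) := by
  ext s
  rw [mem_cent]
  constructor
  · intro hs
    have h2 : MulAut.conj x s = s := hs
    rw [MulAut.conj_apply, mul_inv_eq_iff_eq_mul] at h2
    exact h2.symm
  · intro hs
    show MulAut.conj x s = s
    rw [MulAut.conj_apply, ← hs, mul_inv_cancel_right]

/-- **The row `Co₃`.** -/
theorem row {L : Type u} [Group L] [Finite L] (h : Spor.IsoCo3 L) {p : ℕ} {a : MulAut L} {b : L}
    (S : Cfsg.Agent.H516.Sit p a b) : False := by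
  obtain ⟨x, rfl⟩ := inner h a
  have ho := S.odd
  have h1 : 2 ^ 10 ≤ Nat.card (fixedSubgroup (MulAut.conj x)) :=
    S.two_pow_le ⟨3 ^ 7 * 5 ^ 3 * 7 * 11 * 23, by rw [card_eq h]; ring⟩
  rw [fixed_conj] at h1 ho
  have hx1 : x ≠ 1 := by
    rintro rfl
    obtain ⟨k, hk⟩ := Subgroup.mem_zpowers_iff.1 S.pow
    rw [map_one, one_zpow] at hk
    apply S.b_ne_one
    have h2 : MulAut.conj b = MulAut.conj (1 : L) := by rw [map_one]; exact hk.symm
    exact H516.conj_injective S.good.center h2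
  have := card_lt_of_odd h hx1 ho
  omega

end Cfsg.Agent.H143.RowCo3
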