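import Cfsg.Agent.H106.MAll
import Cfsg.Agent.H143.T5FiTits
import Cfsg.Agent.OrdDiv.Table

/-!
# The middle rows of the sporadic groups: assembly (helper143)

`SporBigM` : the rows `(S, p)` with `p ^ 3 ∣ |S|`; `rowFam_spor` : all rows of the sporadic groups and of the Tits
group, from these, S5303 and S2120.
-/

set_option autoImplicit false

universe u

namespace Cfsg.Agent.H143.T5SporM

open Cfsg Cfsg.Agent.OrdDiv Cfsg.Agent.H533.T5 Cfsg.Agent.H957.T5M Cfsg.Agent.H106.MB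
  Cfsg.Agent.H106.MT Cfsg.Agent.H106.MAll Cfsg.Agent.H106.InnerAb

/-- one row, given the rows of the smaller groups -/
def R (p : ℕ) (Iso : ∀ (K : Type u) [Group K], Prop) : Prop :=
  ∀ (K : Type u) [Group K] [Finite K] [IsSimpleGroup K], ¬ IsMulCommutative K → Iso K →
    Below.{u} p (Nat.card K) → MRow p K

/-- The middle rows of the sporadic groups whose order is divisible by `p ^ 3`, `p ≥ 5`. -/
structure SporBigM : Prop where
  hs : R.{u} 5 (fun K _ => Spor.IsoHS K)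
  mcl : R.{u} 5 (fun K _ => Spor.IsoMcL K)
  ru : R.{u} 5 (fun K _ => Spor.IsoRu K)
  co3 : R.{u} 5 (fun K _ => Spor.IsoCo3 K)
  co2 : R.{u} 5 (fun K _ => Spor.IsoCo2 K)
  co1 : R.{u} 5 (fun K _ => Spor.IsoCo1 K)
  ly : R.{u} 5 (fun K _ => Spor.IsoLy K)
  th : R.{u} 5 (fun K _ => Spor.IsoTh K)
  hn : R.{u} 5 (fun K _ => Spor.IsoHN K)
  b : R.{u} 5 (fun K _ => Spor.IsoB K)
  m5 : R.{u} 5 (fun K _ => Spor.IsoM K)
  m7 : R.{u} 7 (fun K _ => Spor.IsoM K)
  m13 : R.{u} 13 (fun K _ => Spor.IsoM K)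
  on : R.{u} 7 (fun K _ => Spor.IsoON K)
  he : R.{u} 7 (fun K _ => Spor.IsoHe K)
  fi24 : R.{u} 7 (fun K _ => Spor.IsoFi24' K)
  j4 : R.{u} 11 (fun K _ => Spor.IsoJ4 K)

theorem sz_chk : ∀ x ∈ spor, x.2 ≠ 32537600 := by decide +kernel

theorem ree_chk : ∀ x ∈ spor, x.2 % 16 = 8 → x.2 % 27 ≠ 0 := by decide +kernel

theorem ree_mod (m : ℕ) :
    ((3 ^ (2 * m + 1)) ^ 3 * (3 ^ (2 * m + 1) - 1) * ((3 ^ (2 * m + 1)) ^ 3 + 1)) % 16 = 8 := by
  have h1 : 3 ^ (2 * m + 1) % 16 = 3 ∨ 3 ^ (2 * m + 1) % 16 = 11 := by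
    induction m with
    | zero => left; norm_num
    | succ m ih =>
      have h2 : 3 ^ (2 * (m + 1) + 1) = 3 ^ (2 * m + 1) * 9 := by
        rw [show 2 * (m + 1) + 1 = (2 * m + 1) + 2 by ring, pow_add]; norm_num
      omega
  generalize 3 ^ (2 * m + 1) = q at h1
  obtain ⟨c, hc⟩ : ∃ c, q = c + 1 := ⟨q - 1, by omega⟩
  subst hc
  rw [Nat.add_sub_cancel]
  rcases h1 with h1 | h1
  · have h2 : c % 16 = 2 := by omega
    simp [Nat.mul_mod, Nat.add_mod, Nat.pow_mod, h2]
  · have h2 : c % 16 = 10 := by omega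
    simp [Nat.mul_mod, Nat.add_mod, Nat.pow_mod, h2]

theorem ree_27 (m : ℕ) :
    ((3 ^ (2 * m + 1)) ^ 3 * (3 ^ (2 * m + 1) - 1) * ((3 ^ (2 * m + 1)) ^ 3 + 1)) % 27 = 0 := by
  apply Nat.mod_eq_zero_of_dvd
  apply Dvd.dvd.mul_right
  apply Dvd.dvd.mul_right
  have h : (27 : ℕ) = 3 ^ 3 := by norm_num
  rw [h]
  exact pow_dvd_pow_of_dvd (dvd_pow_self 3 (by omega)) 3

/-- **The rows of the sporadic groups and of the Tits group.** -/
theorem rowFam_of (B : SporBigM.{u}) {p : ℕ} (hp : p.Prime) (h5 : 5 ≤ p) (hAA : AAHyp.{u} p)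
    (hIrr : IrrHyp.{u} p) (hSE : SEHyp.{u} p) :
    RowFam.{u} p (fun S _ => IsSporadicGroup S ∨ Lie.IsoTits S) := by
  intro K _ _ _ hna h hlt
  obtain ⟨x, hx, hr⟩ := H977.T5Spor.exists_real h
  have hc : Nat.card K = x.2 := Cfsg.Agent.OrdDiv.table.spor K x hx hr
  obtain ⟨h71, -, -, hL⟩ := H977.T5Spor.check x hx
  by_cases hd : p ^ 3 ∣ Nat.card K
  · rw [hc] at hd
    have hp71 : p ≤ 71 := (hp.dvd_factorial).1 (hp.dvd_of_dvd_pow (((dvd_pow_self p (by norm_num)).trans hd).trans h71))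
    have hm := hL p (H977.T5Spor.mem_primes hp h5 hp71) hd
    have key : ∀ (g : Grp) (r : ℕ), (x.1, p) = (g, r) → (Real g K → Below.{u} r (Nat.card K) → MRow r K) →
        MRow p K := by
      intro g r he hw
      have h1 : x.1 = g := congrArg Prod.fst he
      have h3 : p = r := congrArg Prod.snd he
      rw [h3]
      exact hw (h1 ▸ hr) (h3 ▸ hlt)
    simp only [H977.T5Spor.L, List.mem_cons, List.not_mem_nil, or_false] at hm
    rcases hm with h | h | h | h | h | h | h | h | h | h | h | h | h | h | h | h | h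
    · exact key _ _ h (B.hs K hna)
    · exact key _ _ h (B.mcl K hna)
    · exact key _ _ h (B.ru K hna)
    · exact key _ _ h (B.co3 K hna)
    · exact key _ _ h (B.co2 K hna)
    · exact key _ _ h (B.co1 K hna)
    · exact key _ _ h (B.ly K hna)
    · exact key _ _ h (B.th K hna)
    · exact key _ _ h (B.hn K hna)
    · exact key _ _ h (B.b K hna)
    · exact key _ _ h (B.m5 K hna)
    · exact key _ _ h (B.m7 K hna)
    · exact key _ _ h (B.m13 K hna)
    · exact key _ _ h (B.on K hna)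
    · exact key _ _ h (B.he K hna)
    · exact key _ _ h (B.fi24 K hna)
    · exact key _ _ h (B.j4 K hna)
  · have := Fact.mk hp
    by_cases hex : Exc p K
    · rcases hex with ⟨F, _, _, hF, ⟨e⟩⟩ | ⟨F, _, _, n, hn, hF, ⟨e⟩⟩ | ⟨F, _, _, m, hm, hF, ⟨e⟩⟩ | h1 |
        ⟨rfl, h1 | ⟨F, _, _, hF, ⟨e⟩⟩ | h1 | h1⟩ | ⟨rfl, h1⟩
      · exact H194.MOwn.mrow_psl_own le_rfl h5 e
      · have hF' : CharP F p := by
          refine charP_of_dvd hp ?_
          rw [hF]
          exact dvd_pow_self p (by omega)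
        exact H106.MOwnU.mrow_psu_own (by rw [hF, ← pow_mul]; congr 1; ring) le_rfl h5 e
      · exfalso
        have h1 := Cfsg.Agent.OrdDiv.table.{0}.ree F m hm hF
        rw [← Nat.card_congr e.toEquiv, hc] at h1
        apply ree_chk x hx
        · rw [h1]; exact ree_mod m
        · rw [h1]; exact ree_27 m
      · obtain ⟨e⟩ := h1
        exact MRow.congr e (H201.T5Alt.mrow_alt (by omega) hp h5)
      · exact H143.T5FiTits.mrow_tits hAA hna h1
      · exfalso
        have h1 := Cfsg.Agent.OrdDiv.table.{0}.sz F 2 (by norm_num) (by rw [hF]; norm_num)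
        have h2 : (2 : ℕ) ^ (2 + 1) = 8 := by norm_num
        rw [h2, ← Nat.card_congr e.toEquiv, hc] at h1
        exact sz_chk x hx (by rw [h1]; norm_num)
      · exact B.mcl K hna h1 hlt
      · exact H143.T5FiTits.mrow_fi22 hAA hna h1
      · exact B.j4 K hna h1 hlt
    · refine MRow.of_inner hna (H143.T5FiTits.inner_range h hp h5) ?_
      obtain ⟨P⟩ : Nonempty (Sylow p K) := inferInstance
      refine inner_of_abelian hAA hIrr hSE hna hex P ?_ hlt
      have hcard : Nat.card ↥(P : Subgroup K) ∣ p ^ 2 := by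
        obtain ⟨k, hk⟩ := IsPGroup.iff_card.1 P.isPGroup'
        have h1 := Subgroup.card_subgroup_dvd_card (P : Subgroup K)
        rw [hk] at h1 ⊢
        apply Nat.pow_dvd_pow
        by_contra h2
        exact hd ((Nat.pow_dvd_pow p (by omega)).trans h1)
      obtain ⟨k, hk, hk'⟩ := (Nat.dvd_prime_pow hp).1 hcard
      have hab : ∀ a b : ↥(P : Subgroup K), a * b = b * a := by
        interval_cases k
        · rw [pow_zero, Nat.card_eq_one_iff_unique] at hk'
          have := hk'.1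
          exact fun a b => Subsingleton.elim _ _
        · rw [pow_one] at hk'
          have := isCyclic_of_prime_card hk'
          let _ := IsCyclic.commGroup (α := ↥(P : Subgroup K))
          exact fun a b => mul_comm a b
        · have := IsPGroup.isMulCommutative_of_card_eq_prime_sq hk'
          exact this.1.1
      intro a ha b hb
      exact congrArg Subtype.val (hab ⟨a, ha⟩ ⟨b, hb⟩)

theorem rowFam_spor (B : SporBigM.{u}) {p : ℕ} (hp : p.Prime) (h5 : 5 ≤ p) (hAA : AAHyp.{u} p)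
    (hIrr : IrrHyp.{u} p) (hSE : SEHyp.{u} p) : RowFam.{u} p (fun S _ => IsSporadicGroup S) :=
  fun K _ _ _ hna h hlt => rowFam_of B hp h5 hAA hIrr hSE K hna (Or.inl h) hlt

theorem rowFam_tits (B : SporBigM.{u}) {p : ℕ} (hp : p.Prime) (h5 : 5 ≤ p) (hAA : AAHyp.{u} p)
    (hIrr : IrrHyp.{u} p) (hSE : SEHyp.{u} p) : RowFam.{u} p (fun S _ => Lie.IsoTits S) :=
  fun K _ _ _ hna h hlt => rowFam_of B hp h5 hAA hIrr hSE K hna (Or.inr h) hlt

end Cfsg.Agent.H143.T5SporM
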